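import Cfsg.Agent.LocalStructure.Cores
import Cfsg.Agent.PLocal.Cores
import Cfsg.Agent.Coprime.Action
import Cfsg.Agent.OddOrder.BG1Stab
import Cfsg.Prelude.Def_CaseTheorems
import Cfsg.Prelude.Def_Local

/-!
# Groups of characteristic `p`: `C(O_p) ≤ O_p`, inheritance, Thompson's A×B lemma

* `thompson_axb`: Thompson's A×B lemma.
* `IsCharP p L`: `C_L(O_p(L)) ≤ O_p(L)` for a subgroup `L`, with `isCharP_iff_type`,
  `isCharP_top_iff`.
* inheritance: `IsCharP.of_normal`, `IsCharP.of_isSubnormal`, `IsCharP.inf_normalizer`,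
  `IsCharP.of_le` (subgroups containing `O_p`), `IsCharP.sup_of_isPGroup`,
  `isCharP_normalizer_of_mem` (`C(z)` gives `N(U)` for every `p`-group `U ∋ z`).
* `generalizedFittingSubgroup_eq_pCore`, and conversely `centralizer_fitting_le` (no components)
  and `centralizer_pCore_le_of_no_component`,
  `centralizer_pCore_le_of_generalizedFitting_eq`.
-/

set_option autoImplicit false

namespace CfsgLib.CharPLocal

open Subgroup Cfsg
open scoped commutatorElement

variable {G : Type*} [Group G] [Finite G] {p : ℕ} [Fact p.Prime]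

omit [Finite G] [Fact p.Prime] in
/-- A normalizer normalizes the centralizer. -/
theorem normalizer_le_normalizer_centralizer (U : Subgroup G) :
    normalizer (U : Set G) ≤ normalizer (centralizer (U : Set G) : Set G) := by
  intro g hg
  rw [mem_normalizer_iff]
  intro x
  simp only [mem_centralizer_iff, SetLike.mem_coe]
  constructor
  · intro h u hu
    have := h (g⁻¹ * u * g) (by simpa using (mem_normalizer_iff.1 (inv_mem hg) u).1 hu)
    calc u * (g * x * g⁻¹) = g * ((g⁻¹ * u * g) * x) * g⁻¹ := by group
      _ = g * (x * (g⁻¹ * u * g)) * g⁻¹ := by rw [this]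
      _ = g * x * g⁻¹ * u := by group
  · intro h u hu
    have := h (g * u * g⁻¹) ((mem_normalizer_iff.1 hg u).1 hu)
    calc u * x = g⁻¹ * ((g * u * g⁻¹) * (g * x * g⁻¹)) * g := by group
      _ = g⁻¹ * ((g * x * g⁻¹) * (g * u * g⁻¹)) * g := by rw [this]
      _ = x * u := by group

omit [Finite G] [Fact p.Prime] in
/-- Whoever normalizes `U` and `R` normalizes `[U, R]`. -/
theorem inf_normalizer_le_normalizer_commutator (U R : Subgroup G) :
    normalizer (U : Set G) ⊓ normalizer (R : Set G) ≤ normalizer ((⁅U, R⁆ : Subgroup G) : Set G) := by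
  intro g hg
  have hU := mem_normalizer_iff_map_conj_eq.1 (mem_inf.1 hg).1
  have hR := mem_normalizer_iff_map_conj_eq.1 (mem_inf.1 hg).2
  rw [mem_normalizer_iff_map_conj_eq]
  rw [map_commutator, hU, hR]

/-! ### Thompson's A×B lemma -/

/-- A `p`-group acting on a nontrivial `p`-group has a proper commutator with it. -/
theorem commutator_lt_of_isPGroup {U R : Subgroup G} (hU : IsPGroup p U) (hR : IsPGroup p R)
    (hRU : R ≤ normalizer (U : Set G)) (hne : U ≠ ⊥) : ⁅U, R⁆ < U := by
  refine lt_of_le_of_ne (CfsgLib.Coprime.commutator_le_of_le_normalizer hRU) fun h => hne ?_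
  have hW : IsPGroup p ↥(U ⊔ R) := hU.to_sup_of_normal_left' hR hRU
  have hnil : Group.IsNilpotent ↥(U ⊔ R) := hW.isNilpotent
  have hle : ∀ n, U ≤ (U ⊔ R).lowerCentralSeries n := by
    intro n
    induction n with
    | zero => exact le_sup_left.trans (Subgroup.lowerCentralSeries_zero _).ge
    | succ n ih =>
      rw [Subgroup.lowerCentralSeries_succ]
      exact h.ge.trans (commutator_mono ih le_sup_right)
  obtain ⟨n, hn⟩ := (isNilpotent_iff_lowerCentralSeries (U ⊔ R)).1 hnil
  exact le_bot_iff.1 ((hle n).trans hn.le)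

/-- **Thompson's A×B lemma.** If a `p'`-group `A` and a `p`-group `R` act on the `p`-group `U`,
`A` centralizes `R` and `A` centralizes `C_U(R)`, then `A` centralizes `U`. -/
theorem thompson_axb {A R : Subgroup G} (hA : (Nat.card A).Coprime p) (hR : IsPGroup p R)
    (hAR : A ≤ centralizer (R : Set G)) :
    ∀ (n : ℕ) (U : Subgroup G), Nat.card U ≤ n → IsPGroup p U → A ≤ normalizer (U : Set G) →
      R ≤ normalizer (U : Set G) → U ⊓ centralizer (R : Set G) ≤ centralizer (A : Set G) →
      A ≤ centralizer (U : Set G) := by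
  intro n
  induction n with
  | zero => intro U hn; exact absurd hn (by simp [Nat.card_pos.ne'])
  | succ n ih =>
    intro U hn hU hAU hRU hfix
    by_cases hne : U = ⊥
    · subst hne
      intro a _
      exact mem_centralizer_iff.2 fun x hx => by rw [mem_bot.1 hx]; simp
    have hlt := commutator_lt_of_isPGroup hU hR hRU hne
    have hcard : Nat.card ↥⁅U, R⁆ < Nat.card U := by
      refine lt_of_le_of_ne (Nat.le_of_dvd Nat.card_pos (card_dvd_of_le hlt.le)) fun h => hlt.ne ?_
      exact Subgroup.eq_of_le_of_card_ge hlt.le h.ge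
    have hAN : A ≤ normalizer ((⁅U, R⁆ : Subgroup G) : Set G) :=
      (le_inf hAU (hAR.trans (centralizer_le_normalizer (R : Set G)))).trans
        (inf_normalizer_le_normalizer_commutator U R)
    have hRN : R ≤ normalizer ((⁅U, R⁆ : Subgroup G) : Set G) :=
      le_sup_right.trans (CfsgLib.Coprime.sup_le_normalizer_commutator U R)
    have h1 : A ≤ centralizer ((⁅U, R⁆ : Subgroup G) : Set G) :=
      ih _ (by omega) (hU.to_le hlt.le) hAN hRN ((inf_le_inf_right _ hlt.le).trans hfix)
    have e1 : ⁅⁅U, R⁆, A⁆ = ⊥ :=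
      commutator_eq_bot_iff_le_centralizer.2 (le_centralizer_iff.1 h1)
    have e2 : ⁅⁅R, A⁆, U⁆ = ⊥ := by
      rw [commutator_eq_bot_iff_le_centralizer.2 (le_centralizer_iff.1 hAR), commutator_bot_left]
    have e3 : ⁅⁅A, U⁆, R⁆ = ⊥ := commutator_commutator_eq_bot_of_rotate e1 e2
    have h4 : ⁅U, A⁆ ≤ centralizer (A : Set G) := by
      refine (le_inf ?_ ?_).trans hfix
      · exact CfsgLib.Coprime.commutator_le_of_le_normalizer hAU
      · rw [← commutator_eq_bot_iff_le_centralizer, commutator_comm U A]
        exact e3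
    refine CfsgLib.Coprime.le_centralizer_of_commutator_commutator_eq_bot hAU ?_
      (commutator_eq_bot_iff_le_centralizer.2 h4)
    obtain ⟨k, hk⟩ := IsPGroup.iff_card.1 hU
    rw [hk]
    exact Nat.Coprime.pow_right k hA

/-- Element form of Thompson's A×B lemma. -/
theorem commute_of_axb {U R : Subgroup G} (hU : IsPGroup p U) (hR : IsPGroup p R) {x : G}
    (hx : (orderOf x).Coprime p) (hxU : x ∈ normalizer (U : Set G))
    (hxR : x ∈ centralizer (R : Set G)) (hRU : R ≤ normalizer (U : Set G))
    (hfix : ∀ u ∈ U, u ∈ centralizer (R : Set G) → u * x = x * u) :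
    x ∈ centralizer (U : Set G) := by
  refine thompson_axb (A := zpowers x) (by rwa [Nat.card_zpowers]) hR
    (by rwa [zpowers_le]) _ U le_rfl hU (by rwa [zpowers_le]) hRU ?_ (mem_zpowers x)
  intro u hu
  rw [zpowers_eq_closure, centralizer_closure]
  exact mem_centralizer_singleton_iff.2 (hfix u hu.1 hu.2)

/-! ### Characteristic `p` -/

/-- `C_L(O_p(L)) ≤ O_p(L)`, read inside the ambient group. -/
def IsCharP (p : ℕ) (L : Subgroup G) : Prop :=
  L ⊓ centralizer (pCoreOf p L : Set G) ≤ pCoreOf p L

omit [Finite G] [Fact p.Prime] in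
theorem isCharP_iff_type (L : Subgroup G) :
    IsCharP p L ↔ centralizer (pCore p ↥L : Set ↥L) ≤ pCore p ↥L :=
  (CfsgLib.LocalStructure.charP_iff L).symm

omit [Finite G] [Fact p.Prime] in
theorem isCharP_top_iff : IsCharP p (⊤ : Subgroup G) ↔ centralizer (pCore p G : Set G) ≤ pCore p G := by
  rw [IsCharP, CfsgLib.LocalStructure.pCoreOf_top, top_inf_eq]

/-- A `p'`-element of a characteristic `p` group centralizing `O_p` is trivial. -/
theorem IsCharP.eq_one {L : Subgroup G} (hL : IsCharP p L) {x : G} (hx : x ∈ L)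
    (hc : x ∈ centralizer (pCoreOf p L : Set G)) (ho : (orderOf x).Coprime p) : x = 1 :=
  CfsgLib.LocalStructure.eq_one_of_coprime_of_mem (CfsgLib.LocalStructure.pCoreOf_isPGroup L)
    (hL ⟨hx, hc⟩) ho

/-- To be of characteristic `p` it suffices that no nontrivial `p'`-element centralizes `O_p`. -/
theorem isCharP_of_forall {L : Subgroup G}
    (h : ∀ x ∈ L, x ∈ centralizer (pCoreOf p L : Set G) → (orderOf x).Coprime p → x = 1) :
    IsCharP p L := by
  refine CfsgLib.LocalStructure.le_pCoreOf inf_le_left ?_ ?_
  · exact (le_inf le_normalizer ((CfsgLib.LocalStructure.le_normalizer_pCoreOf L).trans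
      (normalizer_le_normalizer_centralizer _))).trans inf_normalizer_le_normalizer_inf
  · rw [IsPGroup.iff_orderOf]
    intro g
    obtain ⟨a, b, ha, hb, ⟨k, hk⟩, hcop, hab⟩ :=
      CfsgLib.LocalStructure.exists_pPart_mul (p := p) (g : G)
    refine ⟨k, ?_⟩
    have hb' : b ∈ L ⊓ centralizer (pCoreOf p L : Set G) := zpowers_le.2 g.2 hb
    have := h b hb'.1 hb'.2 hcop
    rw [this, mul_one] at hab
    rw [← Subgroup.orderOf_coe, ← hab, hk]

/-- Normal subgroups inherit characteristic `p`. -/
theorem IsCharP.of_normal {L K : Subgroup G} (hL : IsCharP p L) (hKL : K ≤ L)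
    (hn : L ≤ normalizer (K : Set G)) : IsCharP p K := by
  refine isCharP_of_forall fun x hx hc ho => hL.eq_one (hKL hx) ?_ ho
  refine mem_centralizer_iff.2 fun u hu => ?_
  have hmem : ⁅x, u⁆ ∈ pCoreOf p L ⊓ K := by
    rw [commutatorElement_def]
    refine mem_inf.2 ⟨mul_mem ((mem_normalizer_iff.1
      (CfsgLib.LocalStructure.le_normalizer_pCoreOf L (hKL hx)) u).1 hu) (inv_mem hu), ?_⟩
    have := (mem_normalizer_iff.1 (hn (CfsgLib.LocalStructure.pCoreOf_le L hu)) x⁻¹).1 (inv_mem hx)
    simpa [mul_assoc] using mul_mem hx this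
  have hle : pCoreOf p L ⊓ K ≤ pCoreOf p K :=
    CfsgLib.LocalStructure.le_pCoreOf inf_le_right
      ((le_inf ((hKL.trans (CfsgLib.LocalStructure.le_normalizer_pCoreOf L))) le_normalizer).trans
        inf_normalizer_le_normalizer_inf)
      (CfsgLib.LocalStructure.pCoreOf_isPGroup L).to_inf_left
  have hcomm : Commute x ⁅x, u⁆ := (mem_centralizer_iff.1 hc _ (hle hmem)).symm
  refine (CfsgLib.OddOrder.Stab.commute_of_stab_mem hcomm hmem.1 ?_).eq.symm
  obtain ⟨k, hk⟩ := IsPGroup.iff_card.1 (CfsgLib.LocalStructure.pCoreOf_isPGroup (p := p) L)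
  rw [hk]
  exact Nat.Coprime.pow_right k ho

/-- Subnormal subgroups inherit characteristic `p`. -/
theorem IsCharP.of_isSubnormal (hG : IsCharP p (⊤ : Subgroup G)) {K : Subgroup G}
    (hK : K.IsSubnormal) : IsCharP p K := by
  induction hK with
  | top => exact hG
  | step H K hle _ hN ih => exact ih.of_normal hle ((normal_subgroupOf_iff_le_normalizer hle).1 hN)

/-- A subgroup containing `O_p(M)` of a characteristic `p` group `M` is of characteristic `p`. -/
theorem IsCharP.of_le {L M : Subgroup G} (hM : IsCharP p M) (hLM : L ≤ M)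
    (hL : pCoreOf p M ≤ L) : IsCharP p L := by
  refine isCharP_of_forall fun x hx hc ho => hM.eq_one (hLM hx) ?_ ho
  refine mem_centralizer_iff.2 fun u hu => mem_centralizer_iff.1 hc u ?_
  exact CfsgLib.LocalStructure.le_pCoreOf hL
    (hLM.trans (CfsgLib.LocalStructure.le_normalizer_pCoreOf M))
    (CfsgLib.LocalStructure.pCoreOf_isPGroup M) hu

/-- `p`-local subgroups of a characteristic `p` group are of characteristic `p`. -/
theorem IsCharP.inf_normalizer {L U : Subgroup G} (hL : IsCharP p L) (hU : IsPGroup p U)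
    (hUL : U ≤ L) : IsCharP p (L ⊓ normalizer (U : Set G)) := by
  refine isCharP_of_forall fun x hx hc ho => hL.eq_one hx.1 ?_ ho
  set W := pCoreOf p L ⊓ centralizer (U : Set G) with hW
  have hUle : U ≤ pCoreOf p (L ⊓ normalizer (U : Set G)) :=
    CfsgLib.LocalStructure.le_pCoreOf (le_inf hUL le_normalizer) inf_le_right hU
  have hWle : W ≤ pCoreOf p (L ⊓ normalizer (U : Set G)) :=
    CfsgLib.LocalStructure.le_pCoreOf
      (le_inf (inf_le_left.trans (CfsgLib.LocalStructure.pCoreOf_le L))
        (inf_le_right.trans (centralizer_le_normalizer (U : Set G))))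
      ((inf_le_inf (CfsgLib.LocalStructure.le_normalizer_pCoreOf L)
        (normalizer_le_normalizer_centralizer _)).trans inf_normalizer_le_normalizer_inf)
      (CfsgLib.LocalStructure.pCoreOf_isPGroup L).to_inf_left
  exact commute_of_axb (CfsgLib.LocalStructure.pCoreOf_isPGroup L) hU ho
    (CfsgLib.LocalStructure.le_normalizer_pCoreOf L hx.1)
    (mem_centralizer_iff.2 fun u hu => mem_centralizer_iff.1 hc u (hUle hu))
    (hUL.trans (CfsgLib.LocalStructure.le_normalizer_pCoreOf L))
    (fun u hu hu' => mem_centralizer_iff.1 hc u (hWle ⟨hu, hu'⟩))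

/-- The product of a characteristic `p` group with a `p`-group normalizing it is of
characteristic `p`. -/
theorem IsCharP.sup_of_isPGroup {K R : Subgroup G} (hK : IsCharP p K) (hR : IsPGroup p R)
    (hRK : R ≤ normalizer (K : Set G)) : IsCharP p (R ⊔ K) := by
  refine isCharP_of_forall fun x hx hc ho => ?_
  obtain ⟨r, hr, k, hk, rfl⟩ : ∃ r ∈ R, ∃ k ∈ K, r * k = x := by
    obtain ⟨k, hk, r, hr, rfl⟩ :=
      CfsgLib.Coprime.exists_mul_of_mem_sup hRK (sup_comm R K ▸ hx)
    refine ⟨r, hr, r⁻¹ * k * r, ?_, by group⟩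
    simpa using (mem_normalizer_iff.1 (inv_mem (hRK hr)) k).1 hk
  obtain ⟨j, hj⟩ := hR ⟨r, hr⟩
  have hj' : r ^ p ^ j = 1 := by simpa using congrArg Subtype.val hj
  have hpow : (r * k) ^ p ^ j ∈ K := by
    have hgen : ∀ n : ℕ, (r ^ n)⁻¹ * (r * k) ^ n ∈ K := by
      intro n
      induction n with
      | zero => simp
      | succ n ih =>
        rw [pow_succ, pow_succ,
          show (r ^ n * r)⁻¹ * ((r * k) ^ n * (r * k)) = r⁻¹ * ((r ^ n)⁻¹ * (r * k) ^ n) * r * k
            by group]
        refine mul_mem ?_ hk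
        simpa using (mem_normalizer_iff.1 (inv_mem (hRK hr)) _).1 ih
    simpa [hj'] using hgen (p ^ j)
  have hxK := CfsgLib.LocalStructure.mem_of_coprime_of_pow_mem ho hpow
  refine hK.eq_one hxK (centralizer_le (SetLike.coe_subset_coe.2 ?_) hc) ho
  exact CfsgLib.LocalStructure.le_pCoreOf
    ((CfsgLib.LocalStructure.pCoreOf_le K).trans le_sup_right)
    ((sup_le hRK le_normalizer).trans (CfsgLib.LocalStructure.normalizer_le_normalizer_pCoreOf K))
    (CfsgLib.LocalStructure.pCoreOf_isPGroup K)

/-- If `C_G(z)` is of characteristic `p`, so is the centralizer of every `p`-group containing `z`. -/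
theorem isCharP_centralizer_of_mem {z : G} (hC : IsCharP p (centralizer ({z} : Set G))) :
    ∀ (n : ℕ) (R : Subgroup G), Nat.card R ≤ n → IsPGroup p R → z ∈ R →
      IsCharP p (centralizer (R : Set G)) := by
  intro n
  induction n with
  | zero => intro R hn; exact absurd hn (by simp [Nat.card_pos.ne'])
  | succ n ih =>
    intro R hn hR hz
    by_cases hcent : R ≤ centralizer ({z} : Set G)
    · refine (hC.inf_normalizer hR hcent).of_normal
        (le_inf (centralizer_le (Set.singleton_subset_iff.2 hz)) (centralizer_le_normalizer _)) ?_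
      exact inf_le_right.trans (normalizer_le_normalizer_centralizer R)
    · -- a maximal subgroup of `R` containing `z`
      have hne : (zpowers z).subgroupOf R ≠ ⊤ := fun h => hcent fun r hr => by
        obtain ⟨i, rfl⟩ := mem_zpowers_iff.1 (subgroupOf_eq_top.1 h hr)
        exact zpow_mem (mem_centralizer_singleton_iff.2 rfl) i
      obtain ⟨W', hW', hzW'⟩ := (IsCoatomic.eq_top_or_exists_le_coatom _).resolve_left hne
      have := (hR.isNilpotent : Group.IsNilpotent ↥R)
      have hW'n : W'.Normal := Group.normalizerCondition_of_isNilpotent.normal_of_coatom W' hW'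
      set W := W'.map R.subtype with hW
      have hWR : W ≤ R := map_subtype_le W'
      have hlt : W < R := by
        refine lt_of_le_of_ne hWR fun he => hW'.1 ?_
        rw [← comap_map_eq_self_of_injective R.subtype_injective W', ← hW, he]
        exact subgroupOf_self (H := R)
      have hcard : Nat.card W < Nat.card R :=
        lt_of_le_of_ne (Nat.le_of_dvd Nat.card_pos (card_dvd_of_le hlt.le)) fun h =>
          hlt.ne (Subgroup.eq_of_le_of_card_ge hlt.le h.ge)
      have hzW : z ∈ W := ⟨⟨z, hz⟩, hzW' (mem_zpowers z : z ∈ zpowers z), rfl⟩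
      have hRW : R ≤ normalizer (W : Set G) := by
        have hsub : W.subgroupOf R = W' :=
          comap_map_eq_self_of_injective R.subtype_injective W'
        refine (normal_subgroupOf_iff_le_normalizer hWR).1 ?_
        rw [hsub]; exact hW'n
      have hRC : R ≤ normalizer (centralizer (W : Set G) : Set G) :=
        hRW.trans (normalizer_le_normalizer_centralizer W)
      have hX := (ih W (by omega) (hR.to_le hWR) hzW).sup_of_isPGroup hR hRC
      refine (hX.inf_normalizer hR le_sup_left).of_normal
        (le_inf ((centralizer_le (SetLike.coe_subset_coe.2 hWR)).trans le_sup_right)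
          (centralizer_le_normalizer _)) ?_
      exact inf_le_right.trans (normalizer_le_normalizer_centralizer R)

/-- If the centralizer of an element of the `p`-group `U` is of characteristic `p`, so is the
normalizer of `U`. -/
theorem isCharP_normalizer_of_mem {U : Subgroup G} (hU : IsPGroup p U) {z : G} (hzU : z ∈ U)
    (hC : IsCharP p (centralizer ({z} : Set G))) : IsCharP p (normalizer (U : Set G)) := by
  set H := normalizer (U : Set G) with hH
  set R := pCoreOf p H with hR
  have hUR : U ≤ R := CfsgLib.LocalStructure.le_pCoreOf le_normalizer le_rfl hU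
  have hK : IsCharP p (centralizer (R : Set G)) :=
    isCharP_centralizer_of_mem hC _ R le_rfl (CfsgLib.LocalStructure.pCoreOf_isPGroup H) (hUR hzU)
  have hKH : centralizer (R : Set G) ≤ H :=
    (centralizer_le (SetLike.coe_subset_coe.2 hUR)).trans (centralizer_le_normalizer _)
  have hHK : H ≤ normalizer (centralizer (R : Set G) : Set G) :=
    (CfsgLib.LocalStructure.le_normalizer_pCoreOf H).trans (normalizer_le_normalizer_centralizer R)
  have hcore : pCoreOf p (centralizer (R : Set G)) ≤ R :=
    CfsgLib.LocalStructure.le_pCoreOf ((CfsgLib.LocalStructure.pCoreOf_le _).trans hKH)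
      (hHK.trans (CfsgLib.LocalStructure.normalizer_le_normalizer_pCoreOf _))
      (CfsgLib.LocalStructure.pCoreOf_isPGroup _)
  intro x hx
  exact hcore (hK ⟨hx.2, centralizer_le (SetLike.coe_subset_coe.2 hcore) hx.2⟩)

/-! ### Relation with the generalized Fitting subgroup -/

omit [Finite G] [Fact p.Prime] in
/-- A quasisimple group is not nilpotent. -/
theorem not_isNilpotent_of_isQuasisimple {X : Type*} [Group X] (hX : Cfsg.IsQuasisimple X) :
    ¬ Group.IsNilpotent X := by
  intro hnil
  have := hX.2
  have : Nontrivial X := (QuotientGroup.mk'_surjective (center X)).nontrivial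
  have := hX.1
  exact Group.IsPerfect.not_isNilpotent X hnil

/-- A group of characteristic `p` has no component. -/
theorem not_isComponent_of_centralizer_le
    (h : centralizer (pCore p G : Set G) ≤ pCore p G) (K : Subgroup G) :
    ¬ Cfsg.IsComponent K := by
  intro hK
  have hc : IsCharP p K := (isCharP_top_iff.2 h).of_isSubnormal hK.1
  rw [isCharP_iff_type] at hc
  have := hK.2.1
  have := hK.2.2
  rcases (Subgroup.Normal.map (inferInstance : (pCore p ↥K).Normal)
      (QuotientGroup.mk' (center ↥K)) (QuotientGroup.mk'_surjective _)).eq_bot_or_eq_top with h1 | h1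
  · rw [eq_bot_iff, map_le_iff_le_comap, MonoidHom.comap_bot, QuotientGroup.ker_mk'] at h1
    have h2 : pCore p ↥K = ⊤ :=
      top_le_iff.1 ((centralizer_eq_top_iff_subset.2 h1).ge.trans hc)
    exact not_isNilpotent_of_isQuasisimple hK.2
      (Group.isNilpotent_top.1 (h2 ▸ (CfsgLib.PLocal.isPGroup_pCore p ↥K).isNilpotent))
  · -- `K = O_p(K) Z(K)` is nilpotent
    refine not_isNilpotent_of_isQuasisimple hK.2 ?_
    have hq : Group.IsNilpotent (↥K ⧸ center ↥K) := by
      refine Group.isNilpotent_top.1 ?_
      rw [← h1]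
      exact ((CfsgLib.PLocal.isPGroup_pCore p ↥K).map _).isNilpotent
    exact Group.of_quotient_center_nilpotent hq

/-- The Fitting subgroup of a group of characteristic `p` is `O_p`. -/
theorem fittingSubgroup_eq_pCore_of_centralizer_le
    (h : centralizer (pCore p G : Set G) ≤ pCore p G) : fittingSubgroup G = pCore p G := by
  refine le_antisymm (sSup_le fun N hN => ?_)
    (le_sSup ⟨inferInstance, (CfsgLib.PLocal.isPGroup_pCore p G).isNilpotent⟩)
  have := hN.1
  have := hN.2
  have hNn : (⊤ : Subgroup G) ≤ normalizer (N : Set G) := (normalizer_eq_top (H := N)).ge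
  have hc : IsCharP p N := (isCharP_top_iff.2 h).of_normal le_top hNn
  refine CfsgLib.PLocal.le_pCore ?_
  -- in a nilpotent group the `p'`-elements centralize `O_p`
  rw [IsPGroup.iff_orderOf]
  intro g
  obtain ⟨a, b, ha, hb, ⟨k, hk⟩, hcop, hab⟩ :=
    CfsgLib.LocalStructure.exists_pPart_mul (p := p) (g : G)
  refine ⟨k, ?_⟩
  have hbN : b ∈ N := zpowers_le.2 g.2 hb
  have hb1 : b = 1 := by
    refine hc.eq_one hbN ?_ hcop
    -- `[P, B] = [P, B, B]` lies in every term of the lower central series of `N`
    set P := pCoreOf p N with hP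
    set B := zpowers b with hB
    have hBN : B ≤ N := zpowers_le.2 hbN
    have hPN : P ≤ N := CfsgLib.LocalStructure.pCoreOf_le N
    have hBP : B ≤ normalizer (P : Set G) :=
      hBN.trans (CfsgLib.LocalStructure.le_normalizer_pCoreOf N)
    obtain ⟨j, hj⟩ := IsPGroup.iff_card.1 (CfsgLib.LocalStructure.pCoreOf_isPGroup (p := p) N)
    have hcoBP : (Nat.card B).Coprime (Nat.card P) := by
      rw [hB, Nat.card_zpowers, hP, hj]
      exact Nat.Coprime.pow_right j hcop
    have hle : ∀ n, ⁅P, B⁆ ≤ N.lowerCentralSeries n := by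
      intro n
      induction n with
      | zero =>
        rw [Subgroup.lowerCentralSeries_zero]
        exact (CfsgLib.Coprime.commutator_le_of_le_normalizer hBP).trans hPN
      | succ n ih =>
        rw [Subgroup.lowerCentralSeries_succ,
          ← CfsgLib.Coprime.commutator_commutator_eq hBP hcoBP]
        exact commutator_mono ih hBN
    obtain ⟨n, hn⟩ := (isNilpotent_iff_lowerCentralSeries N).1 hN.2
    have h0 : ⁅P, B⁆ = ⊥ := le_bot_iff.1 ((hle n).trans hn.le)
    exact (le_centralizer_iff.1 (commutator_eq_bot_iff_le_centralizer.1 h0)) (mem_zpowers b)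
  rw [hb1, mul_one] at hab
  rw [← Subgroup.orderOf_coe, ← hab, hk]

/-- `F^*(G) = O_p(G)` for a group of characteristic `p`. -/
theorem generalizedFittingSubgroup_eq_pCore
    (h : centralizer (pCore p G : Set G) ≤ pCore p G) :
    Cfsg.generalizedFittingSubgroup G = pCore p G := by
  rw [Cfsg.generalizedFittingSubgroup, fittingSubgroup_eq_pCore_of_centralizer_le h]
  refine sup_eq_right.2 (sSup_le fun K hK => absurd hK (not_isComponent_of_centralizer_le h K))

omit [Fact p.Prime] in
/-- A subnormal nilpotent subgroup lies in the Fitting subgroup. -/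
theorem le_fittingSubgroup_of_isSubnormal {R : Subgroup G} (hR : R.IsSubnormal)
    (hnil : Group.IsNilpotent R) : R ≤ fittingSubgroup G := by
  rw [← subgroupOf_eq_top, ← Subgroup.index_eq_one]
  by_contra hne
  obtain ⟨q, hq, hdvd⟩ := Nat.exists_prime_and_dvd hne
  have : Fact q.Prime := ⟨hq⟩
  let P : Sylow q ↥R := default
  refine P.not_dvd_index (hdvd.trans (index_dvd_of_le ?_))
  intro x hx
  rw [mem_subgroupOf]
  have hsn : ((P : Subgroup ↥R).map R.subtype).IsSubnormal :=
    Subgroup.IsSubnormal.trans' (Subgroup.Normal.isSubnormal inferInstance) hR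
  have hle := CfsgLib.PLocal.le_pCore_of_isSubnormal hsn (P.isPGroup'.map _)
  exact (le_sSup ⟨inferInstance, (CfsgLib.PLocal.isPGroup_pCore q G).isNilpotent⟩ :
    pCore q G ≤ fittingSubgroup G) (hle ⟨x, hx, rfl⟩)

omit [Fact p.Prime] in
/-- If there is no component, the Fitting subgroup contains its centralizer. -/
theorem centralizer_fitting_le (h : ∀ K : Subgroup G, ¬ Cfsg.IsComponent K) :
    centralizer (fittingSubgroup G : Set G) ≤ fittingSubgroup G := by
  set F := fittingSubgroup G with hF
  set C := centralizer (F : Set G) with hC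
  have hFn : F.Normal := Subgroup.sSup_normal _ fun _ hN => hN.1
  have hCn : C.Normal := normalizer_eq_top_iff.1
    (top_le_iff.1 ((normalizer_eq_top (H := F)).ge.trans (normalizer_le_normalizer_centralizer F)))
  -- solvable subnormal subgroups of `C` lie in `F`
  have hsolv : ∀ (n : ℕ) (R : Subgroup G), Nat.card R ≤ n → R.IsSubnormal → R ≤ C →
      Group.IsSolvable R → R ≤ F := by
    intro n
    induction n with
    | zero => intro R hn; exact absurd hn (by simp [Nat.card_pos.ne'])
    | succ n ih =>
      intro R hn hR hRC hRs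
      by_cases hbot : R = ⊥
      · exact hbot ▸ bot_le
      have : Nontrivial R := (nontrivial_iff_ne_bot R).2 hbot
      set D := (commutator ↥R).map R.subtype with hD
      have hDsn : D.IsSubnormal :=
        Subgroup.IsSubnormal.trans' (Subgroup.Normal.isSubnormal inferInstance) hR
      have hDlt : Nat.card D < Nat.card R := by
        rw [hD, card_map_of_injective R.subtype_injective]
        refine lt_of_le_of_ne (Nat.le_of_dvd Nat.card_pos (card_subgroup_dvd_card _)) fun he => ?_
        exact (Group.IsSolvable.commutator_lt_top_of_nontrivial (G := ↥R)).ne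
          (eq_top_of_card_eq _ he)
      have hDs : Group.IsSolvable D :=
        Group.isSolvable_of_surjective (f := ((commutator ↥R).equivMapOfInjective R.subtype
          R.subtype_injective).toMonoidHom) (MulEquiv.surjective _)
      have hDF : D ≤ F := ih D (by omega) hDsn ((map_subtype_le _).trans hRC) hDs
      refine le_fittingSubgroup_of_isSubnormal hR ?_
      have hker : (QuotientGroup.mk' (commutator ↥R)).ker ≤ center ↥R := by
        rw [QuotientGroup.ker_mk']
        intro d hd
        rw [mem_center_iff]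
        intro r
        exact Subtype.ext (mem_centralizer_iff.1 (hRC r.2) d (hDF ⟨d, hd, rfl⟩)).symm
      have hab : Group.IsNilpotent (↥R ⧸ commutator ↥R) := by
        letI : CommGroup (↥R ⧸ commutator ↥R) :=
          { (inferInstance : Group (↥R ⧸ commutator ↥R)) with
            mul_comm := fun a b => (inferInstance : CommGroup (Abelianization ↥R)).mul_comm a b }
        infer_instance
      exact Subgroup.isNilpotent_of_ker_le_center _ hker
  by_cases hCs : Group.IsSolvable C
  · exact hsolv _ C le_rfl (Subgroup.Normal.isSubnormal hCn) le_rfl hCs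
  exfalso
  -- a minimal non-solvable subnormal subgroup of `C` is a component
  obtain ⟨K, ⟨hKsn, hKC, hKns⟩, hmin⟩ := WellFounded.has_min wellFounded_lt
    {K : Subgroup G | K.IsSubnormal ∧ K ≤ C ∧ ¬ Group.IsSolvable K}
    ⟨C, Subgroup.Normal.isSubnormal hCn, le_rfl, hCs⟩
  have hsub : ∀ M : Subgroup ↥K, M.IsSubnormal → M ≠ ⊤ → Group.IsSolvable ↥M ∧ M ≤ center ↥K := by
    intro M hM hMne
    have hlt : M.map K.subtype < K := by
      refine lt_of_le_of_ne (map_subtype_le M) fun he => hMne ?_
      rw [← comap_map_eq_self_of_injective K.subtype_injective M, he]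
      exact subgroupOf_self (H := K)
    have hMsn : (M.map K.subtype).IsSubnormal := Subgroup.IsSubnormal.trans' hM hKsn
    have hMs : Group.IsSolvable ↥(M.map K.subtype) := by
      by_contra hns
      exact hmin _ ⟨hMsn, hlt.le.trans hKC, hns⟩ hlt
    refine ⟨Group.isSolvable_of_surjective (f := (M.equivMapOfInjective K.subtype
      K.subtype_injective).symm.toMonoidHom) (MulEquiv.surjective _), fun m hm => ?_⟩
    have := hsolv _ _ le_rfl hMsn (hlt.le.trans hKC) hMs ⟨m, hm, rfl⟩
    rw [mem_center_iff]
    intro r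
    exact Subtype.ext (mem_centralizer_iff.1 (hKC r.2) m this).symm
  have hperf : commutator ↥K = ⊤ := by
    by_contra hne
    obtain ⟨hs, -⟩ := hsub _ (Subgroup.Normal.isSubnormal inferInstance) hne
    refine hKns ((Group.isSolvable_iff_subgroup_quotient (commutator ↥K)).2 ⟨hs, ?_⟩)
    exact Group.isSolvable_of_comm fun a b =>
      (inferInstance : CommGroup (Abelianization ↥K)).mul_comm a b
  refine h K ⟨hKsn, Group.isPerfect_def.2 hperf, ?_⟩
  have : Nontrivial (↥K ⧸ center ↥K) := by
    rw [QuotientGroup.nontrivial_iff]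
    intro htop
    exact hKns (Group.isSolvable_of_comm fun a b =>
      mem_center_iff.1 (htop ▸ mem_top b : b ∈ center ↥K) a)
  refine ⟨fun N hN => ?_⟩
  have hN' : (N.comap (QuotientGroup.mk' (center ↥K))).Normal := hN.comap _
  by_cases htop : N.comap (QuotientGroup.mk' (center ↥K)) = ⊤
  · right
    rw [← map_comap_eq_self_of_surjective (QuotientGroup.mk'_surjective (center ↥K)) N, htop,
      map_top_of_surjective _ (QuotientGroup.mk'_surjective _)]
  · left
    obtain ⟨-, hle⟩ := hsub _ (Subgroup.Normal.isSubnormal hN') htop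
    rw [← map_comap_eq_self_of_surjective (QuotientGroup.mk'_surjective (center ↥K)) N, eq_bot_iff,
      map_le_iff_le_comap, MonoidHom.comap_bot, QuotientGroup.ker_mk']
    exact hle

/-- No component and trivial `O_{p'}` give characteristic `p`. -/
theorem centralizer_pCore_le_of_no_component (hO : pPrimeCore p G = ⊥)
    (h : ∀ K : Subgroup G, ¬ Cfsg.IsComponent K) :
    centralizer (pCore p G : Set G) ≤ pCore p G := by
  have hF : fittingSubgroup G = pCore p G := by
    refine le_antisymm (sSup_le fun N hN => ?_)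
      (le_sSup ⟨inferInstance, (CfsgLib.PLocal.isPGroup_pCore p G).isNilpotent⟩)
    have := hN.1
    have := hN.2
    refine CfsgLib.PLocal.le_pCore (IsPGroup.of_card (n := (Nat.card N).factorization p) ?_)
    refine Nat.eq_of_dvd_of_div_eq_one ?_ ?_ |>.symm
    · exact Nat.ordProj_dvd _ p
    by_contra hne
    obtain ⟨q, hq, hdvd⟩ := Nat.exists_prime_and_dvd hne
    have : Fact q.Prime := ⟨hq⟩
    have hqp : q ≠ p := fun e => (Nat.not_dvd_ordCompl Fact.out Nat.card_pos.ne') (e ▸ hdvd)
    let P : Sylow q ↥N := default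
    have hsn : ((P : Subgroup ↥N).map N.subtype).IsSubnormal :=
      Subgroup.IsSubnormal.trans' (Subgroup.Normal.isSubnormal inferInstance)
        (Subgroup.Normal.isSubnormal hN.1)
    have hle := CfsgLib.PLocal.le_pPrimeCore_of_isSubnormal (p := p) hsn (by
      obtain ⟨j, hj⟩ := IsPGroup.iff_card.1 (P.isPGroup'.map N.subtype)
      rw [hj]
      exact Nat.Coprime.pow_left j ((Nat.coprime_primes hq Fact.out).2 hqp))
    rw [hO, le_bot_iff, map_eq_bot_iff_of_injective _ N.subtype_injective] at hle
    refine P.ne_bot_of_dvd_card ?_ hle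
    exact hdvd.trans (Nat.ordCompl_dvd _ p)
  rw [← hF]
  exact centralizer_fitting_le h

/-- `F^*(G) = O_p(G)` implies characteristic `p`. -/
theorem centralizer_pCore_le_of_generalizedFitting_eq
    (h : Cfsg.generalizedFittingSubgroup G = pCore p G) :
    centralizer (pCore p G : Set G) ≤ pCore p G := by
  have hnc : ∀ K : Subgroup G, ¬ Cfsg.IsComponent K := fun K hK => by
    have hle : K ≤ pCore p G :=
      ((le_sSup (show K ∈ {K : Subgroup G | Cfsg.IsComponent K} from hK)).trans
        (le_sup_left (b := fittingSubgroup G))).trans h.le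
    exact not_isNilpotent_of_isQuasisimple hK.2
      ((CfsgLib.PLocal.isPGroup_pCore p G).to_le hle).isNilpotent
  have hF : fittingSubgroup G ≤ pCore p G := (le_sup_right (a := Cfsg.layer G)).trans h.le
  intro x hx
  exact hF (centralizer_fitting_le hnc
    (centralizer_le (SetLike.coe_subset_coe.2 hF) hx))

end CfsgLib.CharPLocal
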