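import Cfsg.Agent.CharPLocal.Basic
import Mathlib.GroupTheory.Perm.Cycle.Type

/-!
# Characteristic 2: involution centralizers and 2-local subgroups

* `centralizer_singleton_eq_normalizer`, `exists_involution_of_ne_bot`,
* `isCharP_normalizer_two`: if the centralizers of the involutions of `Z(U)` (one is enough) are of
  characteristic 2, so is `N(U)`;
* `not_isComponent_of_pPrimeCore_eq_bot`: components of `X` with trivial core survive in the
  quotient by the core.
-/

set_option autoImplicit false

namespace CfsgLib.CharPLocal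

open Subgroup Cfsg

variable {G : Type*} [Group G] [Finite G]

omit [Finite G] in
theorem isPGroup_two_zpowers_of_orderOf {z : G} (hz : orderOf z = 2) : IsPGroup 2 ↥(zpowers z) :=
  IsPGroup.of_card (n := 1) (by rw [Nat.card_zpowers, hz, pow_one])

omit [Finite G] in
/-- The centralizer of an involution is the normalizer of the subgroup it generates. -/
theorem centralizer_singleton_eq_normalizer {z : G} (hz : orderOf z = 2) :
    centralizer ({z} : Set G) = normalizer (zpowers z : Set G) := by
  refine le_antisymm ?_ fun g hg => ?_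
  · rw [← centralizer_closure, ← zpowers_eq_closure]
    exact centralizer_le_normalizer _
  · have hmem : g * z * g⁻¹ ∈ zpowers z :=
      (mem_normalizer_iff.1 hg z).1 (mem_zpowers z)
    have hfin : IsOfFinOrder z := orderOf_pos_iff.1 (by omega)
    obtain ⟨n, hn, hk⟩ : ∃ n < 2, z ^ n = g * z * g⁻¹ := by
      obtain ⟨n, hn⟩ := hfin.mem_powers_iff_mem_zpowers.2 hmem
      exact ⟨n % 2, Nat.mod_lt _ two_pos, by rw [← hz, pow_mod_orderOf]; exact hn⟩
    rw [mem_centralizer_singleton_iff]
    interval_cases n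
    · exfalso
      rw [pow_zero, eq_comm, mul_inv_eq_one] at hk
      have hz1 : z = 1 := mul_eq_left.1 hk
      simp [hz1] at hz
    · rw [pow_one, eq_mul_inv_iff_mul_eq] at hk
      exact hk.symm

/-- A nontrivial 2-group contains a central involution. -/
theorem exists_involution_center_of_ne_bot {U : Subgroup G} (hU : IsPGroup 2 ↥U) (hne : U ≠ ⊥) :
    ∃ z ∈ U, orderOf z = 2 ∧ ∀ u ∈ U, u * z = z * u := by
  have : Fact (Nat.Prime 2) := ⟨Nat.prime_two⟩
  have : Nontrivial ↥U := (nontrivial_iff_ne_bot U).2 hne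
  have hnt := hU.center_nontrivial
  have hdvd : 2 ∣ Nat.card ↥(center ↥U) := by
    rcases (hU.to_subgroup (center ↥U)).card_eq_or_dvd with h1 | h1
    · exact absurd h1 (Finite.one_lt_card).ne'
    · exact h1
  obtain ⟨z, hz⟩ := exists_prime_orderOf_dvd_card' (G := ↥(center ↥U)) 2 hdvd
  refine ⟨((z : ↥U) : G), (z : ↥U).2, by rw [Subgroup.orderOf_coe, Subgroup.orderOf_coe, hz],
    fun u hu => ?_⟩
  exact congrArg Subtype.val (mem_center_iff.1 z.2 ⟨u, hu⟩)

/-- If all involution centralizers are of characteristic 2, so are all 2-locals. -/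
theorem isCharP_normalizer_two {U : Subgroup G} (hU : IsPGroup 2 ↥U) (hne : U ≠ ⊥)
    (h : ∀ z : G, orderOf z = 2 → IsCharP 2 (centralizer ({z} : Set G))) :
    IsCharP 2 (normalizer (U : Set G)) := by
  have : Fact (Nat.Prime 2) := ⟨Nat.prime_two⟩
  obtain ⟨z, hzU, hz, hc⟩ := exists_involution_center_of_ne_bot hU hne
  exact isCharP_normalizer_of_mem hU hzU (h z hz)

omit [Finite G] in
/-- Quasisimplicity is invariant under isomorphism. -/
theorem isQuasisimple_of_mulEquiv {H : Type*} [Group H] (e : G ≃* H) (h : Cfsg.IsQuasisimple G) :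
    Cfsg.IsQuasisimple H := by
  have := h.1
  refine ⟨Group.IsPerfect.ofSurjective (f := e.toMonoidHom) e.surjective, ?_⟩
  have hc : (center G).map e.toMonoidHom = center H := by
    ext y
    constructor
    · rintro ⟨x, hx, rfl⟩
      exact mem_center_iff.2 fun g => by
        obtain ⟨g, rfl⟩ := e.surjective g
        show e g * e x = e x * e g
        rw [← map_mul, ← map_mul, mem_center_iff.1 hx g]
    · intro hy
      refine ⟨e.symm y, mem_center_iff.2 fun g => e.injective ?_, e.apply_symm_apply y⟩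
      rw [map_mul, map_mul, e.apply_symm_apply, mem_center_iff.1 hy (e g)]
  exact (QuotientGroup.congr (center G) (center H) e hc).isSimpleGroup_congr.1 h.2

/-- A component of a group with trivial `p'`-core gives a component of its quotient by that core. -/
theorem not_isComponent_of_pPrimeCore_eq_bot {p : ℕ} (hO : pPrimeCore p G = ⊥)
    (h : ∀ K : Subgroup (G ⧸ pPrimeCore p G), ¬ Cfsg.IsComponent K) (K : Subgroup G) :
    ¬ Cfsg.IsComponent K := by
  intro hK
  have hinj : Function.Injective (QuotientGroup.mk' (pPrimeCore p G)) := by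
    rw [← MonoidHom.ker_eq_bot_iff, QuotientGroup.ker_mk', hO]
  exact h _ ⟨hK.1.map (QuotientGroup.mk'_surjective _),
    isQuasisimple_of_mulEquiv (K.equivMapOfInjective _ hinj) hK.2⟩

end CfsgLib.CharPLocal

namespace CfsgLib.CharPLocal

open Subgroup Cfsg

variable {G : Type*} [Group G] [Finite G] {p : ℕ} [Fact p.Prime]

/-- A nontrivial normal subgroup of a `p`-group meets the centre. -/
theorem exists_ne_one_central_of_normal {T U : Subgroup G} (hT : IsPGroup p T) (hUT : U ≤ T)
    (hTU : T ≤ normalizer (U : Set G)) (hne : U ≠ ⊥) :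
    ∃ z ∈ U, z ≠ 1 ∧ ∀ t ∈ T, t * z = z * t := by
  have := (normal_subgroupOf_iff_le_normalizer hUT).2 hTU
  set U' := U.subgroupOf T with hU'
  have hU'ne : U' ≠ ⊥ := by
    rw [ne_eq, hU', subgroupOf_eq_bot, disjoint_iff, inf_eq_left.2 hUT]; exact hne
  have : Nontrivial ↥U' := (nontrivial_iff_ne_bot U').2 hU'ne
  have hdvd : p ∣ Nat.card ↥U' := by
    rcases (hT.to_subgroup U').card_eq_or_dvd with h1 | h1
    · exact absurd h1 (Finite.one_lt_card).ne'
    · exact h1
  have hcp : IsPGroup p (ConjAct ↥T) := hT.of_equiv ConjAct.toConjAct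
  obtain ⟨x, hx, hx1⟩ := hcp.exists_fixed_point_of_prime_dvd_card_of_fixed_point ↥U' hdvd
    (a := (1 : ↥U')) (fun g => Subtype.ext (smul_one g))
  refine ⟨((x : ↥T) : G), x.2, fun h => hx1 (Subtype.ext (Subtype.ext h.symm)), fun t ht => ?_⟩
  have h2 := congrArg (fun y : ↥U' => ((y : ↥T) : G)) (hx (ConjAct.toConjAct ⟨t, ht⟩))
  simp only [ConjAct.Subgroup.val_conj_smul, ConjAct.smul_def, ConjAct.ofConjAct_toConjAct,
    Subgroup.coe_mul, Subgroup.coe_inv] at h2
  exact mul_inv_eq_iff_eq_mul.1 h2

/-- Subnormal subgroups of a characteristic `p` subgroup are of characteristic `p`. -/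
theorem IsCharP.of_isSubnormal_subgroupOf {H K : Subgroup G} (hH : IsCharP p H) (hKH : K ≤ H)
    (hK : (K.subgroupOf H).IsSubnormal) : IsCharP p K := by
  suffices h : ∀ A : Subgroup ↥H, A.IsSubnormal → IsCharP p (A.map H.subtype) by
    have := h _ hK
    rwa [map_subgroupOf_eq_of_le hKH] at this
  intro A hA
  induction hA with
  | top => rwa [← MonoidHom.range_eq_map, range_subtype]
  | step A B hle _ hN ih =>
    exact ih.of_normal (map_mono hle)
      ((map_mono ((normal_subgroupOf_iff_le_normalizer hle).1 hN)).trans (le_normalizer_map _))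

/-- `O_p` of a subnormal subgroup lies in `O_p` of the whole. -/
theorem pCoreOf_le_of_isSubnormal_subgroupOf {H K : Subgroup G} (hKH : K ≤ H)
    (hK : (K.subgroupOf H).IsSubnormal) : pCoreOf p K ≤ pCoreOf p H := by
  intro x hx
  have hxK : x ∈ K := CfsgLib.LocalStructure.pCoreOf_le K hx
  have h1 : (pCoreOf p K).subgroupOf H ≤ pCore p ↥H := by
    refine le_trans (CfsgLib.LocalStructure.le_pCoreOf ?_ ?_
      (CfsgLib.LocalStructure.pCoreOf_isPGroup K).comap_subtype)
      (CfsgLib.LocalStructure.pCoreOf_le_of_isSubnormal hK)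
    · exact fun y hy => CfsgLib.LocalStructure.pCoreOf_le K hy
    · intro y hy
      rw [mem_normalizer_iff]
      intro w
      exact mem_normalizer_iff.1 (CfsgLib.LocalStructure.le_normalizer_pCoreOf K hy) (w : G)
  exact ⟨⟨x, hKH hxK⟩, h1 hx, rfl⟩

/-- A subnormal subgroup `K = O^p(K)` is normalized by `O_p` of the whole. -/
theorem pCoreOf_le_normalizer_of_isSubnormal {H K : Subgroup G} (hKH : K ≤ H)
    (hK : (K.subgroupOf H).IsSubnormal)
    (hres : CfsgLib.LocalStructure.pResOf p K = K) : pCoreOf p H ≤ normalizer (K : Set G) := by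
  have h1 : CfsgLib.LocalStructure.pResOf p (K.subgroupOf H) = K.subgroupOf H := by
    refine le_antisymm (CfsgLib.LocalStructure.pResOf_le _) fun x hx => ?_
    have hmap : (CfsgLib.LocalStructure.pResOf p (K.subgroupOf H)).map H.subtype =
        CfsgLib.LocalStructure.pResOf p K := by
      rw [CfsgLib.LocalStructure.map_pResOf, map_subgroupOf_eq_of_le hKH]
    obtain ⟨y, hy, he⟩ := (hmap.trans hres).ge (show (x : G) ∈ K from hx)
    rwa [← Subtype.ext he]
  have h2 : pCore p ↥H ≤ normalizer (K.subgroupOf H : Set ↥H) :=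
    h1 ▸ CfsgLib.LocalStructure.pCore_le_normalizer_pResOf hK
  refine (map_mono h2).trans ?_
  refine (le_normalizer_map H.subtype).trans ?_
  rw [map_subgroupOf_eq_of_le hKH]

/-- A perfect subgroup is generated by its `p'`-elements. -/
theorem pResOf_eq_self_of_perfect {K : Subgroup G} (hK : ⁅K, K⁆ = K) :
    CfsgLib.LocalStructure.pResOf p K = K := by
  have hperf : Group.IsPerfect ↥K := Subgroup.isPerfect_iff.2 hK
  have := CfsgLib.LocalStructure.pResidual_normal (p := p) (G := ↥K)
  have hq := CfsgLib.LocalStructure.isPGroup_quotient_pResidual (p := p) (G := ↥K)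
  have : Group.IsPerfect (↥K ⧸ pResidual p ↥K) :=
    Group.IsPerfect.ofSurjective (QuotientGroup.mk'_surjective _)
  have htop : pResidual p ↥K = ⊤ := by
    by_contra hne
    have : Nontrivial (↥K ⧸ pResidual p ↥K) := QuotientGroup.nontrivial_iff.2 hne
    exact Group.IsPerfect.not_isNilpotent _ hq.isNilpotent
  rw [← CfsgLib.LocalStructure.map_pResidual, htop, ← MonoidHom.range_eq_map, range_subtype]

omit [Fact p.Prime] in
/-- If the perfect group `L` and the `p`-group `R` act on the `p`-group `U`, `L` normalizes `R` with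
`[R, L]` centralizing `U`, and `L` centralizes `C_U(R)`, then `L` centralizes `U`. -/
theorem centralize_of_centralize_fixed [Fact p.Prime] {R L : Subgroup G} (hR : IsPGroup p R)
    (hL : ⁅L, L⁆ = L) (hLR : L ≤ normalizer (R : Set G)) :
    ∀ (n : ℕ) (U : Subgroup G), Nat.card U ≤ n → IsPGroup p U → L ≤ normalizer (U : Set G) →
      R ≤ normalizer (U : Set G) → ⁅R, L⁆ ≤ centralizer (U : Set G) →
      U ⊓ centralizer (R : Set G) ≤ centralizer (L : Set G) → U ≤ centralizer (L : Set G) := by
  intro n
  induction n with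
  | zero => intro U hn; exact absurd hn (by simp [Nat.card_pos.ne'])
  | succ n ih =>
    intro U hn hU hLU hRU hc hfix
    by_cases hne : U = ⊥
    · exact hne ▸ bot_le
    have hlt := commutator_lt_of_isPGroup hU hR hRU hne
    have hcard : Nat.card ↥⁅U, R⁆ < Nat.card U := by
      refine lt_of_le_of_ne (Nat.le_of_dvd Nat.card_pos (card_dvd_of_le hlt.le)) fun h => hlt.ne ?_
      exact Subgroup.eq_of_le_of_card_ge hlt.le h.ge
    have h1 : ⁅U, R⁆ ≤ centralizer (L : Set G) :=
      ih _ (by omega) (hU.to_le hlt.le)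
        ((le_inf hLU hLR).trans (inf_normalizer_le_normalizer_commutator U R))
        (le_sup_right.trans (CfsgLib.Coprime.sup_le_normalizer_commutator U R))
        (hc.trans (centralizer_le (SetLike.coe_subset_coe.2 hlt.le)))
        ((inf_le_inf_right _ hlt.le).trans hfix)
    have e1 : ⁅⁅U, R⁆, L⁆ = ⊥ := commutator_eq_bot_iff_le_centralizer.2 h1
    have e2 : ⁅⁅R, L⁆, U⁆ = ⊥ := commutator_eq_bot_iff_le_centralizer.2 hc
    have e3 : ⁅⁅L, U⁆, R⁆ = ⊥ := commutator_commutator_eq_bot_of_rotate e1 e2
    have h4 : ⁅L, U⁆ ≤ centralizer (L : Set G) := by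
      refine (le_inf ?_ (commutator_eq_bot_iff_le_centralizer.1 e3)).trans hfix
      rw [commutator_comm]
      exact CfsgLib.Coprime.commutator_le_of_le_normalizer hLU
    have f2 : ⁅⁅L, U⁆, L⁆ = ⊥ := commutator_eq_bot_iff_le_centralizer.2 h4
    have f3 : ⁅⁅U, L⁆, L⁆ = ⊥ := by rw [commutator_comm U L]; exact f2
    have f1 : ⁅⁅L, L⁆, U⁆ = ⊥ := commutator_commutator_eq_bot_of_rotate f2 f3
    rw [hL] at f1
    rw [le_centralizer_iff, ← commutator_eq_bot_iff_le_centralizer]
    exact f1

end CfsgLib.CharPLocal
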